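import Mathlib

/-! Closed points of constructible sets over Jacobson rings. -/

universe u

open Topology

namespace Groth.Agent.ConsJac15

/-- A constructible set is covered by locally closed subsets. -/
theorem exists_isLocallyClosed {R : Type u} [CommRing R] {E : Set (PrimeSpectrum R)} (hE : IsConstructible E)
    {y : PrimeSpectrum R} (hy : y ∈ E) : ∃ C ⊆ E, IsLocallyClosed C ∧ y ∈ C := by
  obtain ⟨S, rfl⟩ := PrimeSpectrum.exists_constructibleSetData_iff.mpr hE
  simp only [PrimeSpectrum.ConstructibleSetData.toSet, Set.mem_iUnion] at hy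
  obtain ⟨c, hc, hyc⟩ := hy
  refine ⟨c.toSet, Set.subset_biUnion_of_mem (u := fun c => c.toSet) hc, ?_, hyc⟩
  exact (PrimeSpectrum.isClosed_zeroLocus _).isLocallyClosed.inter
    ((PrimeSpectrum.isClosed_zeroLocus _).isOpen_compl.isLocallyClosed)

theorem isClosed_singleton_of_closed_in {R : Type u} [CommRing R] [IsJacobsonRing R] {E : Set (PrimeSpectrum R)}
    (hE : IsConstructible E) {y : PrimeSpectrum R} (hy : y ∈ E) (h : closure {y} ∩ E = {y}) :
    IsClosed ({y} : Set (PrimeSpectrum R)) := by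
  obtain ⟨C, hCE, hC, hyC⟩ := exists_isLocallyClosed hE hy
  refine isClosed_singleton_of_isLocallyClosed_singleton ?_
  have : ({y} : Set (PrimeSpectrum R)) = closure {y} ∩ C :=
    (Set.singleton_subset_iff.2 (show y ∈ closure {y} ∩ C from ⟨subset_closure rfl, hyC⟩)).antisymm
      ((Set.inter_subset_inter_right _ hCE).trans h.le)
  rw [this]
  exact isClosed_closure.isLocallyClosed.inter hC

theorem isMaximal_comap_of_finiteType {R S : Type u} [CommRing R] [CommRing S] [Algebra R S]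
    [IsJacobsonRing R] [Algebra.FiniteType R S] (m : Ideal S) [m.IsMaximal] :
    (m.comap (algebraMap R S)).IsMaximal := by
  obtain ⟨n, π, hπ⟩ := Algebra.FiniteType.iff_quotient_mvPolynomial''.1 ‹Algebra.FiniteType R S›
  letI := Ideal.Quotient.field m
  have h := MvPolynomial.comp_C_integral_of_surjective_of_isJacobsonRing
    ((Ideal.Quotient.mk m).comp π.toRingHom) (Ideal.Quotient.mk_surjective.comp hπ)
  have := Ideal.isMaximal_comap_of_isIntegral_of_isMaximal' _ h (⊥ : Ideal (S ⧸ m))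
  convert this using 1
  ext r
  rw [Ideal.mem_comap, Ideal.mem_comap, Submodule.mem_bot]
  show _ ↔ Ideal.Quotient.mk m (π (MvPolynomial.C r)) = 0
  rw [Ideal.Quotient.eq_zero_iff_mem, ← MvPolynomial.algebraMap_eq, π.commutes]

theorem isClosed_singleton_comap {R S : Type u} [CommRing R] [CommRing S] [Algebra R S]
    [IsJacobsonRing R] [Algebra.FiniteType R S] {y : PrimeSpectrum S} (hy : IsClosed ({y} : Set (PrimeSpectrum S))) :
    IsClosed ({PrimeSpectrum.comap (algebraMap R S) y} : Set (PrimeSpectrum R)) := by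
  rw [PrimeSpectrum.isClosed_singleton_iff_isMaximal] at hy ⊢
  exact isMaximal_comap_of_finiteType y.asIdeal

theorem exists_closed_preimage {R S : Type u} [CommRing R] [CommRing S] [Algebra R S] [IsJacobsonRing S]
    {E : Set (PrimeSpectrum S)} (hE : IsConstructible E) {x : PrimeSpectrum R}
    (hx : IsClosed ({x} : Set (PrimeSpectrum R))) (hxE : x ∈ PrimeSpectrum.comap (algebraMap R S) '' E) :
    x ∈ PrimeSpectrum.comap (algebraMap R S) '' {y | y ∈ E ∧ closure {y} ∩ E = {y}} := by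
  obtain ⟨y, hy, rfl⟩ := hxE
  obtain ⟨C, hCE, hC, hyC⟩ := exists_isLocallyClosed hE hy
  obtain ⟨z, ⟨hzC, hzx⟩, hz⟩ := nonempty_inter_closedPoints
    (Z := C ∩ PrimeSpectrum.comap (algebraMap R S) ⁻¹' {PrimeSpectrum.comap (algebraMap R S) y})
    ⟨y, hyC, rfl⟩ (hC.inter (hx.preimage (PrimeSpectrum.continuous_comap (algebraMap R S))).isLocallyClosed)
  refine ⟨z, ⟨hCE hzC, ?_⟩, hzx⟩
  rw [(mem_closedPoints_iff.1 hz).closure_eq]
  exact Set.inter_eq_left.2 (Set.singleton_subset_iff.2 (hCE hzC))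

theorem mem_image_of_dense {R S : Type u} [CommRing R] [CommRing S] [Algebra R S]
    {E : Set (PrimeSpectrum S)} (hE : IsConstructible E) {ξ : PrimeSpectrum R}
    (h : closure ({ξ} : Set (PrimeSpectrum R)) ⊆ closure (closure {ξ} ∩ PrimeSpectrum.comap (algebraMap R S) '' E)) :
    ξ ∈ PrimeSpectrum.comap (algebraMap R S) '' E := by
  obtain ⟨T, _, g, rfl⟩ := PrimeSpectrum.exists_range_eq_of_isConstructible hE
  let J := ξ.asIdeal.map (g.comp (algebraMap R S))
  let φ : R →+* T ⧸ J := (Ideal.Quotient.mk J).comp (g.comp (algebraMap R S))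
  have hξ : ξ.asIdeal ≤ RingHom.ker φ := fun r hr =>
    Ideal.Quotient.eq_zero_iff_mem.2 (Ideal.mem_map_of_mem _ hr)
  have hsub : closure ({ξ} : Set (PrimeSpectrum R)) ∩ PrimeSpectrum.comap (algebraMap R S) '' Set.range (PrimeSpectrum.comap g)
      ⊆ Set.range (PrimeSpectrum.comap φ) := by
    rintro x ⟨hx, _, ⟨t, rfl⟩, rfl⟩
    rw [PrimeSpectrum.closure_singleton, PrimeSpectrum.mem_zeroLocus, SetLike.coe_subset_coe] at hx
    have ht : t ∈ Set.range (PrimeSpectrum.comap (Ideal.Quotient.mk J)) := by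
      rw [range_comap_of_surjective _ _ Ideal.Quotient.mk_surjective, Ideal.mk_ker,
        PrimeSpectrum.mem_zeroLocus, SetLike.coe_subset_coe]
      exact Ideal.map_le_iff_le_comap.2 hx
    obtain ⟨t', rfl⟩ := ht
    exact ⟨t', rfl⟩
  have hker : RingHom.ker φ ≤ ξ.asIdeal := by
    have := (h.trans (closure_mono hsub)) (subset_closure rfl)
    rwa [PrimeSpectrum.closure_range_comap, PrimeSpectrum.mem_zeroLocus, SetLike.coe_subset_coe] at this
  obtain ⟨p, hp, -, hpξ⟩ := Ideal.exists_comap_eq_of_mem_minimalPrimes φ (I := ⊥) ξ.asIdeal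
    ⟨⟨ξ.isPrime, hker⟩, fun q hq _ => hξ.trans hq.2⟩
  exact ⟨PrimeSpectrum.comap g (PrimeSpectrum.comap (Ideal.Quotient.mk J) ⟨p, hp⟩),
    ⟨_, rfl⟩, PrimeSpectrum.ext hpξ⟩

end Groth.Agent.ConsJac15
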